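import Cfsg.Agent.H418.Mono.Stmt5

/-!
# S2187, X4, M5A for `p = 5` (helper418)

`p5_orbA5` : orbits of type `A₄`.
-/

set_option autoImplicit false
set_option linter.unusedSectionVars false

namespace Cfsg.Agent.H418.Mono

open CoxeterSystem Cfsg Cfsg.Lie Cfsg.Lie.ChevalleyDatum
open Cfsg.Agent.ChevalleyStructure Cfsg.Agent.ChevalleyStructure.Elts Cfsg.Agent.ChevalleyStructure.CoxeterGeom
  Cfsg.Agent.ChevalleyStructure.CoxeterGeomTypes Cfsg.Agent.ChevalleyStructure.NPerm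
open Cfsg.Agent.Tits.Roots Cfsg.Agent.Tits.Core Cfsg.Agent.Nodes Cfsg.Agent.Nodes.Reps Cfsg.Agent.Nodes.BNOf
  Cfsg.Agent.Nodes.SubComb Cfsg.Agent.Nodes.RGDChev Cfsg.Agent.Nodes.Bruhat Cfsg.Agent.Nodes.Coroot
open Cfsg.Agent.KFacts.RgdField Cfsg.Agent.KFacts.RgdChevCoord
open Cfsg.Agent.BpExc Cfsg.Agent.BpExc.TorCent Cfsg.Agent.BpExc.TorChev Cfsg.Agent.BpExc.Tow
  Cfsg.Agent.BpExc.TowChev Cfsg.Agent.BpExc.Fr Cfsg.Agent.BpExc.LangFr
open Cfsg.Agent.H469.Exc Cfsg.Agent.H316.U6 Cfsg.Agent.H818.Gen Cfsg.Agent.H818.Mono Cfsg.Agent.H696.GmnToral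
open Cfsg.Agent.H225.Gen (LL LL_rep LL_root LL_neg hi_E8)
open Cfsg.Agent.H818.StrP.UTab Cfsg.Agent.H496.Mono
open Cfsg.Agent.H46.Gen (AFr slT afr_of_five)
open Cfsg.Agent.H321.Mono (InS.mono inS_of_afr)

variable {D : ChevalleyDatum} {l : ℕ} {M : CoxeterMatrix (Fin l)} {hp : IsType D l M} {r : ℕ} [Fact r.Prime]

/-- a telescope -/
theorem tele {X : Type*} [AddCommGroup X] {ev ev' : Fin 5 → X} (L : X →+ X)
    (h : ∀ i, L (ev i - ev (i + 1)) = ev' i - ev' (i + 1)) (i j : Fin 5) : L (ev i - ev j) = ev' i - ev' j := by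
  have h1 : ∀ i, L (ev i) - ev' i = L (ev (i + 1)) - ev' (i + 1) := fun i => by
    have h2 := h i
    rw [map_sub] at h2
    rw [sub_eq_sub_iff_sub_eq_sub]
    exact h2
  have h0 : ∀ i, L (ev i) - ev' i = L (ev 0) - ev' 0 := by
    intro i
    have a0 := h1 0
    have a1 := h1 1
    have a2 := h1 2
    have a3 := h1 3
    fin_cases i
    · rfl
    · exact a0.symm
    · exact a1.symm.trans a0.symm
    · exact a2.symm.trans (a1.symm.trans a0.symm)
    · exact a3.symm.trans (a2.symm.trans (a1.symm.trans a0.symm))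
  have h2 := (h0 i).trans (h0 j).symm
  rw [map_sub]
  rwa [sub_eq_sub_iff_sub_eq_sub] at h2

/-- the frame of five roots -/
def ev5 {X : Type*} [AddCommGroup X] (c : Fin 5 → X) : Fin 5 → X :=
  ![0, -c 0, -c 0 - c 1, -c 0 - c 1 - c 2, -c 0 - c 1 - c 2 - c 3]

theorem ev5_sub {X : Type*} [AddCommGroup X] {c : Fin 5 → X} (hs : c 0 + c 1 + c 2 + c 3 + c 4 = 0) (j : Fin 5) :
    ev5 c j - ev5 c (j + 1) = c j := by
  have h4 : c 4 = -c 0 - c 1 - c 2 - c 3 := by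
    have h5 : c 4 = (c 0 + c 1 + c 2 + c 3 + c 4) - c 0 - c 1 - c 2 - c 3 := by abel
    rw [hs] at h5
    rw [h5]; abel
  fin_cases j
  · show (0 : X) - -c 0 = c 0
    abel
  · show -c 0 - (-c 0 - c 1) = c 1
    abel
  · show -c 0 - c 1 - (-c 0 - c 1 - c 2) = c 2
    abel
  · show -c 0 - c 1 - c 2 - (-c 0 - c 1 - c 2 - c 3) = c 3
    abel
  · show -c 0 - c 1 - c 2 - c 3 - 0 = c 4
    rw [h4]; abel

/-- **M5A, `p = 5`** -/
theorem p5_orbA5 (hsl : slT D = true) (hG : D ≠ chevG2) (h : HiList D) : P5 hp r 5 (OrbA5 hp) := by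
  intro e τ γ E H S hE2 hr hpr hq ε hε a ha hO
  have := finite_W hp M.toCoxeterSystem
  have := Fintype.ofFinite M.Group
  obtain ⟨f, hf, h1, hs, hO⟩ := hO
  have haR := LL_root h _ _ ha.1
  set cs := M.toCoxeterSystem with hcs
  have hf5 : f ^ 5 = 1 := VE_pow S hf
  set c : Fin 5 → Fin l → ℤ := fun j => rep cs hp.isCartan (f ^ (j : ℕ)) a with hc
  have hc0 : c 0 = a := by
    show rep cs hp.isCartan (f ^ 0) a = a
    rw [pow_zero, map_one, Module.End.one_apply]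
  have hc1 : c 1 = rep cs hp.isCartan f a := by
    show rep cs hp.isCartan (f ^ 1) a = _
    rw [pow_one]
  have hcmod : ∀ n : ℕ, rep cs hp.isCartan (f ^ n) a = c (Fin.ofNat 5 n) := by
    intro n
    show _ = rep cs hp.isCartan (f ^ (n % 5)) a
    conv_lhs => rw [← Nat.div_add_mod n 5, pow_add, pow_mul, hf5, one_pow, one_mul]
  have hcadd : ∀ (n : ℕ) (i : Fin 5), rep cs hp.isCartan (f ^ n) (c i) = c (i + Fin.ofNat 5 n) := by
    intro n i
    show rep cs hp.isCartan (f ^ n) (rep cs hp.isCartan (f ^ (i : ℕ)) a) = _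
    rw [← rep_mul_apply, ← pow_add, hcmod]
    congr 1
    apply Fin.ext
    show (n + i) % 5 = (i + n % 5) % 5
    omega
  have hsc : ∀ j, c (j + 1) = rep cs hp.isCartan f (c j) := by
    intro j
    have h2 := hcadd 1 j
    rw [pow_one] at h2
    rw [h2]
    rfl
  have hsum : c 0 + c 1 + c 2 + c 3 + c 4 = 0 := by
    rw [hc0, hc1]
    exact hs
  have hev := ev5_sub hsum
  have hA : AFr D l (ev5 c) := afr_of_five hp cs hsl hG haR hc0 hsc hsum (by rw [hc0, hc1]; exact h1) hev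
  have hfV : ∀ n : ℕ, f ^ n ∈ VE hp r E := fun n => pow_mem hf n
  have hγc : ∀ i, γ (c i) = ε • c i := by
    intro i
    show γ (rep cs hp.isCartan (f ^ (i : ℕ)) a) = ε • rep cs hp.isCartan (f ^ (i : ℕ)) a
    rw [VE_gam S (hfV i) haR, ha.2, map_zsmul]
  have hγe : ∀ i j, γ (ev5 c i - ev5 c j) = ε • ev5 c i - ε • ev5 c j := by
    refine tele (ev' := fun i => ε • ev5 c i) γ.toAddMonoidHom fun i => ?_
    show γ (ev5 c i - ev5 c (i + 1)) = ε • ev5 c i - ε • ev5 c (i + 1)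
    rw [← smul_sub, hev, hγc]
  have hsh : ∀ v ∈ VE hp r E, ∀ n : ℕ, rep cs hp.isCartan v a = rep cs hp.isCartan (f ^ n) a →
      ∀ i j, rep cs hp.isCartan v (ev5 c i - ev5 c j) = ev5 c (i + Fin.ofNat 5 n) - ev5 c (j + Fin.ofNat 5 n) := by
    intro v hv n hn
    refine tele (ev' := fun i => ev5 c (i + Fin.ofNat 5 n)) (rep cs hp.isCartan v).toAddMonoidHom fun i => ?_
    show rep cs hp.isCartan v (ev5 c i - ev5 c (i + 1)) = ev5 c (i + Fin.ofNat 5 n) - ev5 c (i + 1 + Fin.ofNat 5 n)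
    rw [add_right_comm, hev, hev, ← hcadd]
    show rep cs hp.isCartan v (rep cs hp.isCartan (f ^ (i : ℕ)) a) =
      rep cs hp.isCartan (f ^ n) (rep cs hp.isCartan (f ^ (i : ℕ)) a)
    rw [← rep_mul_apply, VE_comm S hv (hfV i), rep_mul_apply, hn, ← rep_mul_apply, ← rep_mul_apply, ← pow_add,
      ← pow_add, add_comm]
  have hF : Fact (4 + 1).Prime := ⟨Nat.prime_five⟩
  refine InS.mono (inS_of_afr (n := 4) S (by norm_num) hr hpr hA (π := Equiv.refl _) ?_ hf ?_ ?_) ?_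
  · rcases hε.1 with rfl | rfl
    · left
      intro i j _
      rw [hγe i j, one_smul, one_smul]
      rfl
    · right
      intro i j _
      rw [hγe i j, neg_one_smul, neg_one_smul]
      show -ev5 c i - -ev5 c j = ev5 c j - ev5 c i
      abel
  · intro i j _
    have h2 := hsh f hf 1 (by rw [pow_one]) i j
    exact h2
  · intro v hv
    obtain ⟨n, hn⟩ := hO v hv
    exact ⟨Fin.ofNat 5 n, fun i j _ => hsh v hv n hn i j⟩
  · rintro x (rfl | rfl)
    · exact ⟨0, 1, by decide, by rw [← hc0]; exact (hev 0).symm⟩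
    · exact ⟨1, 0, by decide, by rw [← hc0, ← hev 0, neg_sub]; rfl⟩

end Cfsg.Agent.H418.Mono
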