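import Cfsg.Agent.H418.Mono.NoPlus5
import Cfsg.Agent.H889.Mono.Five

/-!
# S2187, X4, `E₈`, `p = 5`: the lattice facts stab5, split5 in the form of `NoPlus5` (helper889, helper418)
-/

set_option autoImplicit false
set_option linter.unusedSectionVars false

namespace Cfsg.Agent.H418.Mono

open CoxeterSystem Cfsg Cfsg.Lie Cfsg.Lie.ChevalleyDatum
open Cfsg.Agent.Tits.Roots Cfsg.Agent.Nodes.RGDChev
open Cfsg.Agent.H225.Gen (LL)

variable {M : CoxeterMatrix (Fin 8)} (hp : IsType chevE8 8 M)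

theorem pStab5 : PStab5 hp := fun _ _ hc hw hv _ hb h1 h2 => H889.Mono.Five.stab5 hp hc hw hv hb h1 h2

theorem pSplit5 : PSplit5 hp := fun _ hw _ hb h1 h2 _ _ _ _ h0 h1' h2' h3' =>
  H889.Mono.Five.split5 hp hw hb h1 h2 h0 h1' h2' h3'

end Cfsg.Agent.H418.Mono
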