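import Cfsg.Agent.H418.Mono.Stmt5
import Cfsg.Agent.H875.Mono.Trich5

/-!
# S2187, X4, `E₈`, `p = 5`: trich5 in the form of `Stmt5` (helper875, helper418)
-/

set_option autoImplicit false
set_option linter.unusedSectionVars false

namespace Cfsg.Agent.H418.Mono

open CoxeterSystem Cfsg Cfsg.Lie Cfsg.Lie.ChevalleyDatum
open Cfsg.Agent.Tits.Roots Cfsg.Agent.Nodes.RGDChev
open Cfsg.Agent.H225.Gen (LL hi_E8)

theorem pTrich5 {M : CoxeterMatrix (Fin 8)} (hp : IsType chevE8 8 M) : PTrich5 hp :=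
  fun V hc h5 _ hS _ hno a ha =>
    H875.Mono.trich5 hi_E8 hp M.toCoxeterSystem V hc h5 (hS ha) (fun v hv => hno v hv a ha)

end Cfsg.Agent.H418.Mono
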