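import Cfsg.Agent.H418.Mono.Union5
import Cfsg.Agent.H418.Mono.Lat5
import Cfsg.Agent.H418.Mono.Tri5
import Cfsg.Agent.H889.Mono.FiveFin

/-!
# S2187: `E₈`, `p = 5`, complete (helper418; lattice facts: helper889, helper875)
-/

set_option autoImplicit false
set_option linter.unusedSectionVars false

namespace Cfsg.Agent.H418.Mono

open CoxeterSystem Cfsg Cfsg.Lie Cfsg.Lie.ChevalleyDatum
open Cfsg.Agent.Nodes.RGDChev
open Cfsg.Agent.BpExc Cfsg.Agent.H316.U6 Cfsg.Agent.H818.Gen Cfsg.Agent.H818.Gen.Exc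

theorem pLam5 {M : CoxeterMatrix (Fin 8)} (hp : IsType chevE8 8 M) : PLam5 hp := H889.Mono.Five.lam5 hp

/-- **`E₈`, `p = 5`** (the input `e8five` of `H818/Gen/Final`) -/
theorem e8five (r : ℕ) [Fact r.Prime] (F : Type) [Field F] [Fintype F] [CharP F r]
    (m : MData RowsUntw.e8T r (Fintype.card F) ↥(chevE8.group F)) (S : StdM 1 m) (hr2 : r ≠ 2) (hr5 : 5 ≠ r)
    (hq : 3 ≤ Fintype.card F) : GenIn m 5 :=
  e8five_of (pTrich5 _) (pStab5 _) (pSplit5 _) (pLam5 _) r F m S hr2 hr5 hq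

end Cfsg.Agent.H418.Mono
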