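import Cfsg.Agent.H418.Mono.Stmt5
import Cfsg.Agent.H46.X4.NoPlus

/-!
# S2187, X4, `E₈`, `p = 5`: frames without `60°` (helper418)

`PStab5`, `PSplit5`, `PLam5` : the lattice facts (helper889); `noPlus5` : `PNoPlus5 m` from them.
-/

set_option autoImplicit false
set_option linter.unusedSectionVars false

namespace Cfsg.Agent.H418.Mono

open CoxeterSystem Cfsg Cfsg.Lie Cfsg.Lie.ChevalleyDatum
open Cfsg.Agent.ChevalleyStructure Cfsg.Agent.ChevalleyStructure.Elts Cfsg.Agent.ChevalleyStructure.CoxeterGeom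
  Cfsg.Agent.ChevalleyStructure.CoxeterGeomTypes Cfsg.Agent.ChevalleyStructure.NPerm
open Cfsg.Agent.Tits.Roots Cfsg.Agent.Tits.Core Cfsg.Agent.Nodes Cfsg.Agent.Nodes.Reps Cfsg.Agent.Nodes.BNOf
  Cfsg.Agent.Nodes.SubComb Cfsg.Agent.Nodes.RGDChev Cfsg.Agent.Nodes.Bruhat Cfsg.Agent.Nodes.Coroot
open Cfsg.Agent.KFacts.RgdField Cfsg.Agent.KFacts.RgdChevCoord
open Cfsg.Agent.BpExc Cfsg.Agent.BpExc.TorCent Cfsg.Agent.BpExc.TorChev Cfsg.Agent.BpExc.Tow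
  Cfsg.Agent.BpExc.TowChev Cfsg.Agent.BpExc.Fr Cfsg.Agent.BpExc.LangFr
open Cfsg.Agent.H469.Exc Cfsg.Agent.H316.U6 Cfsg.Agent.H818.Gen Cfsg.Agent.H818.Mono Cfsg.Agent.H696.GmnToral
open Cfsg.Agent.H225.Gen (LL LL_rep LL_root LL_neg hi_E8)
open Cfsg.Agent.H818.StrP.UTab Cfsg.Agent.H496.Mono
open Cfsg.Agent.H46.X4 (IsRfl exists_rfl' exists_good imp_five)

universe v

variable {D : ChevalleyDatum} {l : ℕ} {M : CoxeterMatrix (Fin l)} (hp : IsType D l M)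

/-- stab5 -/
def PStab5 : Prop :=
  ∀ w v : M.Group, w * v = v * w → w ^ 5 = 1 → v ^ 5 = 1 → ∀ b ∈ LL M.toCoxeterSystem hp,
    cpr M.toCoxeterSystem hp.isCartan (rep M.toCoxeterSystem hp.isCartan w b) b = 1 →
    cpr M.toCoxeterSystem hp.isCartan (rep M.toCoxeterSystem hp.isCartan (w ^ 2) b) b = 1 →
    ∃ j : ℕ, rep M.toCoxeterSystem hp.isCartan v (b - rep M.toCoxeterSystem hp.isCartan w b) =
      rep M.toCoxeterSystem hp.isCartan (w ^ j) (b - rep M.toCoxeterSystem hp.isCartan w b)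

/-- split5 -/
def PSplit5 : Prop :=
  ∀ w : M.Group, w ^ 5 = 1 → ∀ b ∈ LL M.toCoxeterSystem hp,
    cpr M.toCoxeterSystem hp.isCartan (rep M.toCoxeterSystem hp.isCartan w b) b = 1 →
    cpr M.toCoxeterSystem hp.isCartan (rep M.toCoxeterSystem hp.isCartan (w ^ 2) b) b = 1 →
    ∀ s₀ s₁ s₂ s₃ : M.Group, IsRfl hp s₀ (b - rep M.toCoxeterSystem hp.isCartan w b) →
      IsRfl hp s₁ (rep M.toCoxeterSystem hp.isCartan w (b - rep M.toCoxeterSystem hp.isCartan w b)) →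
      IsRfl hp s₂ (rep M.toCoxeterSystem hp.isCartan (w ^ 2) (b - rep M.toCoxeterSystem hp.isCartan w b)) →
      IsRfl hp s₃ (rep M.toCoxeterSystem hp.isCartan (w ^ 3) (b - rep M.toCoxeterSystem hp.isCartan w b)) →
      (s₀ * s₁ * s₂ * s₃)⁻¹ * w = 1

/-- lam2 -/
def PLam5 : Prop :=
  ∀ w : M.Group, w ^ 5 = 1 → ∀ b ∈ LL M.toCoxeterSystem hp,
    cpr M.toCoxeterSystem hp.isCartan (rep M.toCoxeterSystem hp.isCartan w b) b = 1 →
    ∃ b' ∈ LL M.toCoxeterSystem hp,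
      cpr M.toCoxeterSystem hp.isCartan (rep M.toCoxeterSystem hp.isCartan w b') b' = 1 ∧
      cpr M.toCoxeterSystem hp.isCartan (rep M.toCoxeterSystem hp.isCartan (w ^ 2) b') b' = 1

variable {hp} {r : ℕ} [Fact r.Prime] {q : ℕ} {K₀ : Type v} [Group K₀]

/-- **M6 for `p = 5`** -/
theorem noPlus5 (h : HiList D) (hst : PStab5 hp) (hsp : PSplit5 hp) (hla : PLam5 hp) (m : MData hp r q K₀) :
    PNoPlus5 m := by
  intro γ ε hγ E hE hσ hr2 hr5 hq z hε hz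
  have := finite_W hp M.toCoxeterSystem
  have hfin : Finite ↥E := by
    have := m.fin
    refine Finite.of_injective (fun x : ↥E => (⟨x.1, hσ x.1 x.2⟩ : ↥(fixedSubgroup m.σ))) fun a b hab => ?_
    exact Subtype.ext (congrArg (fun t : ↥(fixedSubgroup m.σ) => t.1) hab)
  have hε' : Eps 5 (r ^ m.e) ε := by rw [m.hq]; exact hε
  have key : ∃ z', NFrame m E z' γ ∧ ∀ f ∈ E, ∀ w, NR hp r w (z'⁻¹ * f * z') → ¬ (w ^ 5 = 1 ∧
      ∃ b ∈ LL M.toCoxeterSystem hp,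
        cpr M.toCoxeterSystem hp.isCartan (rep M.toCoxeterSystem hp.isCartan w b) b = 1) := by
    refine exists_good m (bad := fun w => w ^ 5 = 1 ∧ ∃ b ∈ LL M.toCoxeterSystem hp,
      cpr M.toCoxeterSystem hp.isCartan (rep M.toCoxeterSystem hp.isCartan w b) b = 1) ?_ hz
    rintro z hz f hf w hw ⟨hw5, b₀, hb₀, hb₀1⟩
    obtain ⟨b, hb, hb1, hb2⟩ := hla w hw5 b₀ hb₀ hb₀1
    set E' := E.map (MulAut.conj z⁻¹).toMonoidHom with hE'
    have S := hz.sit hE hσ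
    have hmem : ∀ x ∈ E, z⁻¹ * x * z ∈ E' := by
      intro x hx
      refine ⟨x, hx, ?_⟩
      show z⁻¹ * x * z⁻¹⁻¹ = _
      rw [inv_inv]
    have hbr := LL_root h _ _ hb
    have hfE := hmem f hf
    have hcr : IsRoot M.toCoxeterSystem hp.isCartan (b - rep M.toCoxeterSystem hp.isCartan w b) := by
      have h2 := (isRoot_refl M.toCoxeterSystem hp.isCartan (hbr.act w) hbr).neg
      rwa [hb1, one_smul, neg_sub] at h2
    obtain ⟨s₀, hs₀⟩ := exists_rfl' hp hcr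
    obtain ⟨s₁, hs₁⟩ := exists_rfl' hp (hcr.act w)
    obtain ⟨s₂, hs₂⟩ := exists_rfl' hp (hcr.act (w ^ 2))
    obtain ⟨s₃, hs₃⟩ := exists_rfl' hp (hcr.act (w ^ 3))
    obtain ⟨y, hy1, hy2, hy3, hy4⟩ := imp_five h hr5 S hε' hfE hw (b := b) ⟨hb, hγ b⟩ hb1 hb2
      (fun v hv => hst w v (VE_comm S ⟨_, hfE, hw⟩ hv) hw5 (VE_pow S hv) b hb hb1 hb2) hs₀ hs₁ hs₂ hs₃
    have h3 := hsp w hw5 b hb hb1 hb2 s₀ s₁ s₂ s₃ hs₀ hs₁ hs₂ hs₃
    have e2 : ∀ x, (z * y)⁻¹ * x * (z * y) = y⁻¹ * (z⁻¹ * x * z) * y := fun x => by group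
    refine ⟨y, (s₀ * s₁ * s₂ * s₃)⁻¹ * w, hz.change hy1 fun x hx => hy2 _ (hmem x hx), fun x hx hxT => ?_, ?_,
      Or.inl h3, fun x _ => ?_, b, hbr, ?_, fun hcon => ?_⟩
    · rw [e2]
      exact hy3 _ (hmem x hx) hxT
    · rw [e2]
      exact hy4
    · rw [h3, map_one, Module.End.one_apply]
    · rw [h3, map_one, Module.End.one_apply]
    · rw [hcon, cpr_self _ _ hbr] at hb1
      norm_num at hb1
  obtain ⟨z', hz', h1⟩ := key
  refine ⟨z', hz', ?_⟩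
  rintro _ ⟨f, hf, rfl⟩ w hw b hb hcon
  have e1 : (MulAut.conj z'⁻¹).toMonoidHom f = z'⁻¹ * f * z' := by
    show z'⁻¹ * f * z'⁻¹⁻¹ = _
    rw [inv_inv]
  have hw5 : w ^ 5 = 1 := pow_w (hz'.sit hE hσ) ⟨f, hf, rfl⟩ hw
  rw [e1] at hw
  exact h1 f hf w hw ⟨hw5, b, hb, hcon⟩

end Cfsg.Agent.H418.Mono
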