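import Cfsg.Agent.H418.Mono.A5
import Cfsg.Agent.H418.Mono.A4X
import Cfsg.Agent.H418.Mono.NoPlus5
import Cfsg.Agent.H655.Mono.Orth
import Cfsg.Agent.H496.Mono.Root
import Cfsg.Agent.H496.Gen.T2Model
import Cfsg.Agent.H225.Mono.End
import Cfsg.Agent.H900.Fra.Rows

/-!
# S2187, X4, `E₈`, `p = 5`, `q ≡ ± 1 mod 5`: the assembly (helper418)

* `inS_all5` : all orbit types;
* `genIn_five_of` : `GenIn m 5` from trich5 and the lattice facts.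
-/

set_option autoImplicit false
set_option linter.unusedSectionVars false

namespace Cfsg.Agent.H418.Mono

open CoxeterSystem Cfsg Cfsg.Lie Cfsg.Lie.ChevalleyDatum
open Cfsg.Agent.ChevalleyStructure Cfsg.Agent.ChevalleyStructure.Elts Cfsg.Agent.ChevalleyStructure.CoxeterGeom
  Cfsg.Agent.ChevalleyStructure.CoxeterGeomTypes Cfsg.Agent.ChevalleyStructure.NPerm
open Cfsg.Agent.Tits.Roots Cfsg.Agent.Tits.Core Cfsg.Agent.Nodes Cfsg.Agent.Nodes.Reps Cfsg.Agent.Nodes.BNOf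
  Cfsg.Agent.Nodes.SubComb Cfsg.Agent.Nodes.RGDChev Cfsg.Agent.Nodes.Bruhat Cfsg.Agent.Nodes.Coroot
open Cfsg.Agent.KFacts.RgdField Cfsg.Agent.KFacts.RgdChevCoord
open Cfsg.Agent.BpExc Cfsg.Agent.BpExc.TorCent Cfsg.Agent.BpExc.TorChev Cfsg.Agent.BpExc.Tow
  Cfsg.Agent.BpExc.TowChev Cfsg.Agent.BpExc.Fr Cfsg.Agent.BpExc.LangFr
open Cfsg.Agent.H469.Exc Cfsg.Agent.H316.U6 Cfsg.Agent.H818.Gen Cfsg.Agent.H818.Mono Cfsg.Agent.H696.GmnToral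
open Cfsg.Agent.H225.Gen (LL LL_rep LL_root LL_neg hi_E8)
open Cfsg.Agent.H818.StrP.UTab Cfsg.Agent.H496.Mono

universe v

variable {M : CoxeterMatrix (Fin 8)} {hp : IsType chevE8 8 M} {r : ℕ} [Fact r.Prime]

/-- **All orbit types.** -/
theorem inS_all5 (hT : PTrich5 hp) {e : ℕ}
    {τ : MulAut ↥(chevE8.group (KK r))} {γ : (Fin 8 → ℤ) ≃+ (Fin 8 → ℤ)} {E H : Subgroup ↥(chevE8.group (KK r))}
    (S : Sit hp r 5 e τ γ E H) (hE2 : 5 ^ 2 ≤ Nat.card ↥E) (hr2 : r ≠ 2) (hr5 : 5 ≠ r) (hq : 5 ≤ r ^ e) {ε : ℤ}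
    (hε : Eps 5 (r ^ e) ε) (hγ : ∀ x, γ x = ε • x) (hNP : NoPlus hp r E (LL M.toCoxeterSystem hp)) {a : Fin 8 → ℤ}
    (ha : a ∈ LL M.toCoxeterSystem hp) : InS r 8 τ H {a, -a} := by
  have : Fact (Nat.Prime 5) := ⟨Nat.prime_five⟩
  have haS : a ∈ SS hp γ ε := ⟨ha, hγ a⟩
  rcases hT (VE hp r E) (fun v hv w hw => VE_comm S hv hw) (fun v hv => VE_pow S hv) (LL M.toCoxeterSystem hp)
    le_rfl (fun v _ a ha => LL_rep hp _ ha v) (fun v hv a ha => by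
      obtain ⟨y, hy, h1⟩ := hv
      exact hNP y hy v h1 a ha) a ha with h1 | h1 | h1
  · exact orbF (H496.Gen.T2.center_group hp (ne_of_apply_ne ChevalleyDatum.nroots (by decide +kernel)) (KK r)) hi_E8 5
      e τ γ E H S hE2 hr2 hr5 hq ε hε a haS h1
  · obtain ⟨f, hf, h0, horb⟩ := h1
    exact H655.Mono.inS_orth hi_E8 S hr2 (by norm_num) hr5 ha (H655.Mono.eps_cases hε.1 (hγ a)) hf h0 horb
  · exact p5_orbA5 H46.Gen.slT_E8 (ne_of_apply_ne ChevalleyDatum.nroots (by decide +kernel)) hi_E8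
      e τ γ E H S hE2 hr2 hr5 hq ε hε a haS h1

variable {q : ℕ} {K₀ : Type v} [Group K₀]

/-- the automorphism `ε` -/
theorem exists_gam {ε : ℤ} (hε : ε = 1 ∨ ε = -1) : ∃ g : (Fin 8 → ℤ) ≃+ (Fin 8 → ℤ), ∀ y, g y = ε • y := by
  rcases hε with rfl | rfl
  · exact ⟨AddEquiv.refl _, fun y => by rw [one_smul]; rfl⟩
  · exact ⟨AddEquiv.neg _, fun y => by rw [neg_smul, one_smul]; rfl⟩

/-- `q ≥ 9` -/
theorem nine_le (m : MData hp r q K₀) (hr2 : r ≠ 2) (hq : 3 ≤ q) (h5 : 5 ∣ q ^ 2 - 1) : 9 ≤ q := by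
  have hodd : Odd q := by
    rw [← m.hq]
    exact ((Fact.out : r.Prime).odd_of_ne_two hr2).pow
  by_contra hcon
  have h1 : q < 9 := by omega
  interval_cases q <;> revert hodd h5 <;> decide

/-- **`E₈`, `p = 5`, `5 ∣ q² - 1`**, from the lattice facts -/
theorem genIn_five_of (m : MData hp r q K₀) [IsSimpleGroup K₀] (hm : m.g = AddEquiv.refl _) (hT : PTrich5 hp)
    (hst : PStab5 hp) (hsp : PSplit5 hp) (hla : PLam5 hp) (hr2 : r ≠ 2) (hr5 : 5 ≠ r) (hq : 3 ≤ q)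
    (h5 : 5 ∣ q ^ 2 - 1) : GenIn m 5 := by
  have : Fact (Nat.Prime 5) := ⟨Nat.prime_five⟩
  intro E hE hσ hE2
  have hq9 := nine_le m hr2 hq h5
  by_cases ht : ∃ z : ↥(chevE8.group (KK r)), ∀ a ∈ E, z * a * z⁻¹ ∈ TT chevE8 (KK r)
  · obtain ⟨z, hz⟩ := ht
    refine H225.Gen.x12 m hi_E8 hq (fun h1 => absurd h1 (ne_of_apply_ne ChevalleyDatum.nroots (by decide +kernel)))
      hE hσ hE2 hz (Or.inl fun h => ?_)
    have h1 : 5 ∣ (q ^ 2 + 1) - (q ^ 2 - 1) := Nat.dvd_sub h h5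
    have h2 : 1 ≤ q ^ 2 := Nat.one_le_pow _ _ (by omega)
    omega
  · obtain ⟨ε, hε⟩ := exists_eps5 (by omega) h5
    obtain ⟨γ, hγ⟩ := exists_gam hε.1
    obtain ⟨z, hz⟩ := H900.Fra.E8_five m hm hε.1 hε.2 hγ (E := E)
      (fun a => ⟨1, by rw [pow_one]; exact Subtype.ext (hE.2 a.1 a.2)⟩) hσ
    obtain ⟨z', hz', hNP⟩ := noPlus5 hi_E8 hst hsp hla m γ ε hγ E hE hσ hr2 hr5 hq9 z hε hz
    have hcard : Nat.card ↥(E.map (MulAut.conj z'⁻¹).toMonoidHom) = Nat.card ↥E :=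
      Subgroup.card_map_of_injective (MulAut.conj z'⁻¹).injective
    refine H225.Mono.end_E8_five m hr5 hq hz' hε hγ fun a ha => ?_
    refine inS_all5 hT (hz'.sit hE hσ) (by rw [hcard]; exact hE2) hr2 hr5 ?_ (ε := ε) ?_ hγ hNP (LL8 ha)
    · rw [m.hq]; omega
    · rw [m.hq]; exact hε

end Cfsg.Agent.H418.Mono
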