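import Cfsg.Agent.H230.X3.Exc
import Cfsg.Agent.H897.Mono.Sq
import Cfsg.Agent.H900.Fra.Rows

/-!
# S2187, X4, `E₈`, `p = 5`, `5 ∣ q² + 1` (helper418)

`genIn_five_sq` : `GenIn m 5` from `Gen 5` of `D₄(q)` (frames: helper900, toral: helper897, helper889; X3: helper230).
-/

set_option autoImplicit false
set_option linter.unusedSectionVars false

namespace Cfsg.Agent.H418.Mono

open CoxeterSystem Cfsg Cfsg.Lie Cfsg.Lie.ChevalleyDatum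
open Cfsg.Agent.ChevalleyStructure Cfsg.Agent.ChevalleyStructure.Elts Cfsg.Agent.ChevalleyStructure.CoxeterGeom
  Cfsg.Agent.ChevalleyStructure.CoxeterGeomTypes Cfsg.Agent.ChevalleyStructure.NPerm
open Cfsg.Agent.Tits.Roots Cfsg.Agent.Tits.Core Cfsg.Agent.Nodes Cfsg.Agent.Nodes.Reps Cfsg.Agent.Nodes.BNOf
  Cfsg.Agent.Nodes.SubComb Cfsg.Agent.Nodes.RGDChev Cfsg.Agent.Nodes.Bruhat Cfsg.Agent.Nodes.Coroot
open Cfsg.Agent.H469.Exc Cfsg.Agent.H316.U6 Cfsg.Agent.H818.Gen Cfsg.Agent.H818.Mono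

universe v

/-- **`E₈`, `p = 5`, `5 ∣ q² + 1`**, from `Gen 5` of `D₄(q)` -/
theorem genIn_five_sq {hp : IsType chevE8 8 CoxeterMatrix.E₈} {r q : ℕ} [Fact r.Prime] {K₀ : Type v} [Group K₀]
    [IsSimpleGroup K₀] (m : MData hp r q K₀) (hm : m.g = AddEquiv.refl _) (hr5 : 5 ≠ r) (hq : 3 ≤ q)
    (h5 : 5 ∣ q ^ 2 + 1) (hG : ∀ (F : Type) [Field F] [Fintype F], Fintype.card F = q → Gen 5 ↥(chevD4.group F)) :
    GenIn m 5 := by
  have : Fact (Nat.Prime 5) := ⟨Nat.prime_five⟩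
  intro E hE hσ hE2
  obtain ⟨w0, hw0, hfr⟩ := H900.Fra.E8_five_sq m hm h5
  obtain ⟨z, hz⟩ := hfr (E := E) (fun a => ⟨1, by rw [pow_one]; exact Subtype.ext (hE.2 a.1 a.2)⟩) hσ
  obtain ⟨z', hz'⟩ := H897.Mono.toral_sq hr5 m h5 hz hw0 hE hσ
  exact H230.X3.x3 m hq (by norm_num) (fun _ => hG) hE hσ (le_trans (by norm_num) hE2) hz'

end Cfsg.Agent.H418.Mono
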