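import Cfsg.Agent.H496.Mono.Asm
import Cfsg.Agent.H321.Mono.OrbA

/-!
# S2187, X4, `E₈`, `p = 5`, `q ≡ ± 1 mod 5`: the statements of the pieces (helper418)

Plan: `tools/plans/S2187_X4.md`, M9; model: `H496/Mono/{Stmt,Asm}`.

* `OrbO5`, `OrbA5` : the orbit types (with `OrbF`); `PTrich5 hp` : trich5;
* `P5 hp r 5 (OrbF hp)`, `P5 hp r 5 (OrbO5 hp)` : M5F, M5O for `p = 5`;  `P5 hp r 5 (OrbA5 hp)` is proved here (`p5_orbA5`);
* `PNoPlus5 m` : frames without `60°`;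
* `P8a5 m` : the end; `P1e5 m` : frames;
* `genIn_five` : the assembly.
-/

set_option autoImplicit false
set_option linter.unusedSectionVars false

namespace Cfsg.Agent.H418.Mono

open CoxeterSystem Cfsg Cfsg.Lie Cfsg.Lie.ChevalleyDatum
open Cfsg.Agent.ChevalleyStructure Cfsg.Agent.ChevalleyStructure.Elts Cfsg.Agent.ChevalleyStructure.CoxeterGeom
  Cfsg.Agent.ChevalleyStructure.CoxeterGeomTypes Cfsg.Agent.ChevalleyStructure.NPerm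
open Cfsg.Agent.Tits.Roots Cfsg.Agent.Tits.Core Cfsg.Agent.Nodes Cfsg.Agent.Nodes.Reps Cfsg.Agent.Nodes.BNOf
  Cfsg.Agent.Nodes.SubComb Cfsg.Agent.Nodes.RGDChev Cfsg.Agent.Nodes.Bruhat Cfsg.Agent.Nodes.Coroot
open Cfsg.Agent.KFacts.RgdField Cfsg.Agent.KFacts.RgdChevCoord
open Cfsg.Agent.BpExc Cfsg.Agent.BpExc.TorCent Cfsg.Agent.BpExc.TorChev Cfsg.Agent.BpExc.Tow
  Cfsg.Agent.BpExc.TowChev Cfsg.Agent.BpExc.Fr Cfsg.Agent.BpExc.LangFr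
open Cfsg.Agent.H469.Exc Cfsg.Agent.H316.U6 Cfsg.Agent.H818.Gen Cfsg.Agent.H818.Mono Cfsg.Agent.H696.GmnToral
open Cfsg.Agent.H225.Gen (LL LL_rep LL_root LL_neg hi_E8)
open Cfsg.Agent.H818.StrP.UTab Cfsg.Agent.H496.Mono

universe v

variable {D : ChevalleyDatum} {l : ℕ} {M : CoxeterMatrix (Fin l)} (hp : IsType D l M)

/-! ### the orbit types -/

/-- the orbit consists of five orthogonal roots (`V` of exponent 5) -/
def OrbO5 (V : Subgroup M.Group) (a : Fin l → ℤ) : Prop :=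
  ∃ f ∈ V, (∀ j : ℕ, ¬ 5 ∣ j → cpr M.toCoxeterSystem hp.isCartan (rep M.toCoxeterSystem hp.isCartan (f ^ j) a) a = 0) ∧
    ∀ v ∈ V, ∃ j : ℕ, rep M.toCoxeterSystem hp.isCartan v a = rep M.toCoxeterSystem hp.isCartan (f ^ j) a

/-- the orbit consists of five roots with sum zero, the extended diagram of type `A₄` -/
def OrbA5 (V : Subgroup M.Group) (a : Fin l → ℤ) : Prop :=
  ∃ f ∈ V, cpr M.toCoxeterSystem hp.isCartan (rep M.toCoxeterSystem hp.isCartan f a) a = -1 ∧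
    a + rep M.toCoxeterSystem hp.isCartan f a + rep M.toCoxeterSystem hp.isCartan (f ^ 2) a +
      rep M.toCoxeterSystem hp.isCartan (f ^ 3) a + rep M.toCoxeterSystem hp.isCartan (f ^ 4) a = 0 ∧
    ∀ v ∈ V, ∃ j : ℕ, rep M.toCoxeterSystem hp.isCartan v a = rep M.toCoxeterSystem hp.isCartan (f ^ j) a

/-- **trich5** (`D = E₈`) -/
def PTrich5 : Prop :=
  ∀ V : Subgroup M.Group, (∀ v ∈ V, ∀ w ∈ V, v * w = w * v) → (∀ v ∈ V, v ^ 5 = 1) →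
    ∀ S ⊆ LL M.toCoxeterSystem hp, (∀ v ∈ V, ∀ a ∈ S, rep M.toCoxeterSystem hp.isCartan v a ∈ S) →
    (∀ v ∈ V, ∀ a ∈ S, cpr M.toCoxeterSystem hp.isCartan (rep M.toCoxeterSystem hp.isCartan v a) a ≠ 1) →
    ∀ a ∈ S, OrbF hp V a ∨ OrbO5 hp V a ∨ OrbA5 hp V a

variable {hp} {r : ℕ} [Fact r.Prime] {q : ℕ} {K₀ : Type v} [Group K₀]

/-- frames without `60°`, `γ = ε` -/
def PNoPlus5 (m : MData hp r q K₀) : Prop :=
  ∀ (γ : (Fin l → ℤ) ≃+ (Fin l → ℤ)) (ε : ℤ), (∀ x, γ x = ε • x) →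
  ∀ E : Subgroup ↥(D.group (KK r)), IsElementaryAbelian 5 E → (∀ y ∈ E, m.σ y = y) → r ≠ 2 → 5 ≠ r → 9 ≤ q →
    ∀ z : ↥(D.group (KK r)), Eps 5 q ε → NFrame m E z γ →
    ∃ z', NFrame m E z' γ ∧ NoPlus hp r (E.map (MulAut.conj z'⁻¹).toMonoidHom) (LL M.toCoxeterSystem hp)

/-- the end for `γ = ε` (helper225) -/
def P8a5 (m : MData hp r q K₀) : Prop :=
  ∀ E : Subgroup ↥(D.group (KK r)), IsElementaryAbelian 5 E → (∀ y ∈ E, m.σ y = y) → r ≠ 2 → 5 ≠ r → 9 ≤ q →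
    ∀ (z : ↥(D.group (KK r))) (γ : (Fin l → ℤ) ≃+ (Fin l → ℤ)) (ε : ℤ), Eps 5 q ε → (∀ x, γ x = ε • x) →
    NFrame m E z γ → (∀ a, IsRoot M.toCoxeterSystem hp.isCartan a →
      InS r l (MulAut.conj (z⁻¹ * m.σ z) * m.σ) (HZ m 5 E z) {a, -a}) → GamY m.ι 5 E = ⊤

/-- frames for `γ = ε` (helper751, helper900) -/
def P1e5 (m : MData hp r q K₀) : Prop :=
  ∀ ε, Eps 5 q ε → ∃ γ : (Fin l → ℤ) ≃+ (Fin l → ℤ), (∀ x, γ x = ε • x) ∧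
    ∀ E : Subgroup ↥(D.group (KK r)), IsElementaryAbelian 5 E → (∀ y ∈ E, m.σ y = y) → ∃ z, NFrame m E z γ

/-- the sign exists -/
theorem exists_eps5 {q : ℕ} (hq1 : 1 ≤ q) (h : 5 ∣ q ^ 2 - 1) : ∃ ε, Eps 5 q ε := by
  have h1 : q % 5 = 0 ∨ q % 5 = 1 ∨ q % 5 = 2 ∨ q % 5 = 3 ∨ q % 5 = 4 := by omega
  have h2 : (5 : ℤ) ∣ (q : ℤ) ^ 2 - 1 := by
    have h3 : ((q ^ 2 - 1 : ℕ) : ℤ) = (q : ℤ) ^ 2 - 1 := by
      rw [Nat.cast_sub (Nat.one_le_pow _ _ hq1)]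
      push_cast
      ring
    rw [← h3]
    exact_mod_cast h
  obtain ⟨k, hk⟩ : ∃ k, q = 5 * k + q % 5 := ⟨q / 5, by omega⟩
  rcases h1 with h1 | h1 | h1 | h1 | h1 <;> rw [h1] at hk
  · exfalso
    rw [hk] at h2
    push_cast at h2
    have : (5 : ℤ) ∣ -1 := by
      have h4 : (-1 : ℤ) = ((5 * (k : ℤ) + 0) ^ 2 - 1) - 5 * (5 * k ^ 2) := by ring
      rw [h4]
      exact dvd_sub h2 (dvd_mul_right _ _)
    omega
  · exact ⟨1, Or.inl rfl, by push_cast; omega⟩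
  · exfalso
    rw [hk] at h2
    push_cast at h2
    have : (5 : ℤ) ∣ 3 := by
      have h4 : (3 : ℤ) = ((5 * (k : ℤ) + 2) ^ 2 - 1) - 5 * (5 * k ^ 2 + 4 * k) := by ring
      rw [h4]
      exact dvd_sub h2 (dvd_mul_right _ _)
    omega
  · exfalso
    rw [hk] at h2
    push_cast at h2
    have : (5 : ℤ) ∣ 8 := by
      have h4 : (8 : ℤ) = ((5 * (k : ℤ) + 3) ^ 2 - 1) - 5 * (5 * k ^ 2 + 6 * k) := by ring
      rw [h4]
      exact dvd_sub h2 (dvd_mul_right _ _)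
    omega
  · exact ⟨-1, Or.inr rfl, by push_cast; omega⟩

end Cfsg.Agent.H418.Mono
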