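import Cfsg.Agent.H418.Mono.Fin5
import Cfsg.Agent.H418.Mono.Sq5
import Cfsg.Agent.H818.Gen.ExcStd
import Cfsg.Agent.H889.Gen.OrthRow
import Cfsg.Agent.S1082
import Cfsg.Agent.S1054

/-!
# S2187: `E₈`, `p = 5` (helper418)

* `gen_d4` : `Gen p` for `D₄(q)`, `p ≥ 5`;
* `e8five_of` : the input `e8five` of `H818/Gen/Final` from trich5 and the lattice facts.
-/

set_option autoImplicit false
set_option linter.unusedSectionVars false

namespace Cfsg.Agent.H418.Mono

open CoxeterSystem Cfsg Cfsg.Lie Cfsg.Lie.ChevalleyDatum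
open Cfsg.Agent.BpExc Cfsg.Agent.H316.U6 Cfsg.Agent.H818.Gen Cfsg.Agent.H818.Gen.Exc

/-- the characteristic of a finite field of order `r ^ e` -/
theorem charP_of_card {r e : ℕ} (hr : r.Prime) (he : 0 < e) {F : Type} [Field F] [Fintype F]
    (h : Fintype.card F = r ^ e) : CharP F r := by
  obtain ⟨c, hc⟩ := CharP.exists F
  obtain ⟨n, hcp, hn⟩ := FiniteField.card F c
  have h1 : r ∣ c ^ (n : ℕ) := by
    rw [← hn, h]
    exact dvd_pow_self r he.ne'
  have h2 := (Nat.prime_dvd_prime_iff_eq hr hcp).1 (hr.dvd_of_dvd_pow h1)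
  rw [h2]
  exact hc

/-- **`Gen p` for `D₄(q)`**, `p ≠ 3` -/
theorem gen_d4 {r p : ℕ} (hc : Cond r p) (h3 : p ≠ 3) (F : Type) [Field F] [Fintype F] [CharP F r] :
    Gen p ↥(chevD4.group F) := by
  obtain ⟨e⟩ := S1082.result (F := F)
  exact Gen.congr e.symm (H889.Gen.Row.row_oplus hc (fun h => absurd h h3) le_rfl)

/-- **`E₈`, `p = 5`**, from trich5 and the lattice facts -/
theorem e8five_of (hT : PTrich5 RowsUntw.e8T) (hst : PStab5 RowsUntw.e8T) (hsp : PSplit5 RowsUntw.e8T)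
    (hla : PLam5 RowsUntw.e8T) (r : ℕ) [Fact r.Prime] (F : Type) [Field F] [Fintype F] [CharP F r]
    (m : MData RowsUntw.e8T r (Fintype.card F) ↥(chevE8.group F)) (S : StdM 1 m) (hr2 : r ≠ 2) (hr5 : 5 ≠ r)
    (hq : 3 ≤ Fintype.card F) : GenIn m 5 := by
  have hrp : r.Prime := Fact.out
  have : IsSimpleGroup ↥(chevE8.group F) := (S1054.result chevE8 (by simp)).1
  have h1 : ¬ 5 ∣ Fintype.card F := by
    intro h
    rw [← m.hq] at h
    exact hr5 ((Nat.prime_dvd_prime_iff_eq Nat.prime_five hrp).1 (Nat.prime_five.dvd_of_dvd_pow h))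
  have h2 : 5 ∣ Fintype.card F ^ 2 - 1 ∨ 5 ∣ Fintype.card F ^ 2 + 1 := by
    have h4 : 1 ≤ Fintype.card F ^ 2 := Nat.one_le_pow _ _ (by omega)
    have h5 : Fintype.card F ^ 2 % 5 = (Fintype.card F % 5) ^ 2 % 5 := Nat.pow_mod _ _ _
    have h3 : Fintype.card F % 5 = 1 ∨ Fintype.card F % 5 = 2 ∨ Fintype.card F % 5 = 3 ∨ Fintype.card F % 5 = 4 := by
      omega
    rcases h3 with h3 | h3 | h3 | h3 <;> rw [h3] at h5 <;> norm_num at h5 <;> omega
  rcases h2 with h2 | h2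
  · exact genIn_five_of m S.g hT hst hsp hla hr2 hr5 hq h2
  · refine genIn_five_sq m S.g hr5 hq h2 fun F' _ _ hF' => ?_
    have : CharP F' r := charP_of_card hrp m.he (by rw [hF', m.hq])
    exact gen_d4 ⟨hrp, Nat.prime_five, by norm_num, hr5, Or.inr hr2⟩ (by norm_num) F'

end Cfsg.Agent.H418.Mono
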